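import Mathlib
import Groth.Prelude.Def_W4c5t1liftcy3defoArt
import Groth.Agent.Lib.Helper6.ArtFun

/-!
# The T¹-lifting core lemma on the curvilinear test objects (helper8)

Ring-level facts about `A_n = k[t]/(t^(n+1))`, `B_n = A_n[y]/(y²)` and the maps `α, β, ξ, ε` of
`Def_W4c5t1liftcy3defoArt`, and the lifting criterion `main`.
-/

set_option autoImplicit false

universe u v

open CategoryTheory ArtFun ArtFun.Art T1Lift Polynomial

namespace Groth.Agent.H8.T1L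

variable (k : Type u) [Field k]

theorem αAlg_mk (n : ℕ) (p : k[X]) :
    αAlg k n (AdjoinRoot.mk _ p) = AdjoinRoot.mk _ p := by
  have h : αAlg k n (AdjoinRoot.mk _ p) = Polynomial.aeval (t k n) p := rfl
  rw [h, AdjoinRoot.aeval_eq]

theorem αAlg_surjective (n : ℕ) : Function.Surjective (αAlg k n) := fun y => by
  induction y using AdjoinRoot.induction_on with
  | ih p => exact ⟨AdjoinRoot.mk _ p, αAlg_mk k n p⟩

theorem ker_αAlg (n : ℕ) (x : Tr k (n + 1)) (hx : αAlg k n x = 0) :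
    ∃ c : k, x = c • t k (n + 1) ^ (n + 1) := by
  induction x using AdjoinRoot.induction_on with
  | ih p =>
    rw [αAlg_mk, AdjoinRoot.mk_eq_zero] at hx
    obtain ⟨q, rfl⟩ := hx
    obtain ⟨b, hb⟩ := eq_algebraMap_add_t_mul k (n + 1) (AdjoinRoot.mk _ q)
    set c := resA k (n + 1) (AdjoinRoot.mk _ q) with hc
    refine ⟨c, ?_⟩
    rw [map_mul, map_pow, AdjoinRoot.mk_X, hb, mul_add, ← mul_assoc, ← pow_succ, t_pow k (n + 1),
      zero_mul, add_zero, Algebra.smul_def, mul_comm]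

theorem mul_eq_zero_of_ker (n : ℕ) (m x : Tr k (n + 1)) (hm : resA k (n + 1) m = 0)
    (hx : αAlg k n x = 0) : m * x = 0 := by
  obtain ⟨c, rfl⟩ := ker_αAlg k n x hx
  obtain ⟨b, hb⟩ := eq_algebraMap_add_t_mul k (n + 1) m
  rw [hm, map_zero, zero_add] at hb
  rw [hb, mul_smul_comm, mul_right_comm, ← pow_succ', t_pow, zero_mul, smul_zero]

theorem dual_mul_eq_zero (n : ℕ) (m x : DualNumber (Tr k (n + 1)))
    (h3 : TrivSqZeroExt.fst x = 0) (h4 : αAlg k n (TrivSqZeroExt.snd x) = 0)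
    (h5 : resA k (n + 1) (TrivSqZeroExt.fst m) = 0) : m * x = 0 := by
  refine TrivSqZeroExt.ext ?_ ?_
  · rw [TrivSqZeroExt.fst_mul, h3, mul_zero, TrivSqZeroExt.fst_zero]
  · rw [TrivSqZeroExt.snd_mul, h3]
    simp only [MulOpposite.op_zero, zero_smul, add_zero, smul_eq_mul, TrivSqZeroExt.snd_zero]
    exact mul_eq_zero_of_ker k n _ _ h5 h4

theorem t_pow_ne_zero (n : ℕ) : t k (n + 1) ^ (n + 1) ≠ 0 := by
  intro h
  have h1 : t k (n + 1) ^ (n + 1) = AdjoinRoot.mk _ ((X : k[X]) ^ (n + 1)) := by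
    rw [map_pow, AdjoinRoot.mk_X]
  rw [h1, AdjoinRoot.mk_eq_zero, pow_dvd_pow_iff Polynomial.X_ne_zero Polynomial.not_isUnit_X] at h
  omega

theorem isSemismallExt_α (n : ℕ) : IsSemismallExt (α k n) := by
  refine ⟨αAlg_surjective k n, ?_⟩
  rw [eq_bot_iff, Ideal.mul_le]
  intro m hm x hx
  rw [Ideal.mem_bot]
  exact mul_eq_zero_of_ker k n m x ((Art.mem_maximalIdeal_iff _ m).1 hm) (RingHom.mem_ker.1 hx)

theorem ε_β (n : ℕ) : ε k n ≫ β k n = α k n := by
  refine Art.hom_ext (AdjoinRoot.algHom_ext ?_)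
  show TrivSqZeroExt.fst (εAlg k n (t k (n + 1))) = αAlg k n (t k (n + 1))
  rw [εAlg_t, αAlg_t]
  simp

theorem ξ_β (n : ℕ) : ξ k n ≫ β k n = β k (n + 1) ≫ α k n :=
  Art.hom_ext (AlgHom.ext fun _ => rfl)

theorem α_ε (n : ℕ) : α k (n + 1) ≫ ε k n = ε k (n + 1) ≫ ξ k n := by
  refine Art.hom_ext (AdjoinRoot.algHom_ext ?_)
  show εAlg k n (αAlg k (n + 1) (t k (n + 2))) =
    dualMap k (αAlg k n) (εAlg k (n + 1) (t k (n + 2)))
  rw [αAlg_t, εAlg_t, εAlg_t]
  refine TrivSqZeroExt.ext ?_ ?_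
  · show _ = αAlg k n (TrivSqZeroExt.fst _)
    simp
  · show _ = αAlg k n (TrivSqZeroExt.snd _)
    simp

theorem εAlg_ker_injective [CharZero k] (n : ℕ) (j : Tr k (n + 2)) (hj : αAlg k (n + 1) j = 0)
    (h : εAlg k (n + 1) j = 0) : j = 0 := by
  obtain ⟨c, rfl⟩ := ker_αAlg k (n + 1) j hj
  have h1 := congrArg TrivSqZeroExt.snd h
  rw [map_smul, map_pow, εAlg_t, TrivSqZeroExt.snd_smul, TrivSqZeroExt.snd_pow] at h1
  simp only [TrivSqZeroExt.fst_add, TrivSqZeroExt.fst_inl, DualNumber.fst_eps, add_zero,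
    TrivSqZeroExt.snd_add, TrivSqZeroExt.snd_inl, DualNumber.snd_eps, zero_add,
    TrivSqZeroExt.snd_zero, Nat.pred_succ, smul_eq_mul, mul_one] at h1
  have h2 : (c * ((n + 1 + 1 : ℕ) : k)) • t k (n + 1) ^ (n + 1) = 0 := by
    rw [mul_smul, Nat.cast_smul_eq_nsmul]
    exact h1
  rcases smul_eq_zero.1 h2 with h3 | h3
  · rcases mul_eq_zero.1 h3 with h4 | h4
    · rw [h4, zero_smul]
    · exact absurd h4 (Nat.cast_ne_zero.2 (Nat.succ_ne_zero (n + 1)))
  · exact absurd h3 (t_pow_ne_zero k n)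

theorem main [CharZero k]
    (F : ArtFun.Art k k ⥤ Type v)
    (hRS : ∀ ⦃P A A' A'' : ArtFun.Art k k⦄ (p' : P ⟶ A') (p'' : P ⟶ A'') (f' : A' ⟶ A) (f'' : A'' ⟶ A)
      (h : ArtFun.Art.IsFibreProd p' p'' f' f''), Function.Surjective f'' →
        Function.Bijective (ArtFun.cmp F h))
    (V : Type u) [AddCommGroup V] [Module k V] (O : ArtFun.ObsTheory F V)
    (hnat : ∀ ⦃A' A C' C : ArtFun.Art k k⦄ (φ : A' ⟶ A) (hφ : ArtFun.Art.IsSemismallExt φ)
      (ψ : C' ⟶ C) (hψ : ArtFun.Art.IsSemismallExt ψ) (g' : A' ⟶ C') (g : A ⟶ C), φ ≫ g = g' ≫ ψ →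
      ∀ (ℓ : ↥(RingHom.ker φ.toAlgHom) →ₗ[k] ↥(RingHom.ker ψ.toAlgHom)),
        (∀ j : ↥(RingHom.ker φ.toAlgHom), ((ℓ j : ↥(RingHom.ker ψ.toAlgHom)) : C') = g' (j : A')) →
        ∀ u : F.obj A, O.obs ψ hψ (F.map g u) = LinearMap.lTensor V ℓ (O.obs φ hφ u))
    (n : ℕ) (X : F.obj (T1Lift.A k (n + 1))) :
    (∃ X' : F.obj (T1Lift.A k (n + 2)), F.map (T1Lift.α k (n + 1)) X' = X) ↔
      ∃ Y : F.obj (T1Lift.B k (n + 1)), F.map (T1Lift.β k (n + 1)) Y = X ∧
        F.map (T1Lift.ξ k n) Y = F.map (T1Lift.ε k n) X := by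
  constructor
  · rintro ⟨X', rfl⟩
    refine ⟨F.map (ε k (n + 1)) X', ?_, ?_⟩
    · rw [← H6.map_comp_apply', ε_β]
    · rw [← H6.map_comp_apply', ← H6.map_comp_apply', α_ε]
  · rintro ⟨Y, hY1, hY2⟩
    have hαs : Function.Surjective (α k n) := αAlg_surjective k n
    obtain ⟨C, p₁, p₂, hC⟩ := H6.art_exists_isFibreProd (β k n) (α k n) hαs
    obtain ⟨ψ, hψ1, hψ2⟩ := H6.fp_exists_lift hC (ξ k n) (β k (n + 1)) (ξ_β k n)
    obtain ⟨g, hg1, hg2⟩ := H6.fp_exists_lift hC (ε k n) (𝟙 _)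
      ((ε_β k n).trans (Category.id_comp _).symm)
    have hsq : α k (n + 1) ≫ g = ε k (n + 1) ≫ ψ := by
      apply H6.fp_hom_ext hC
      · rw [Category.assoc, hg1, Category.assoc, hψ1, α_ε]
      · rw [Category.assoc, hg2, Category.assoc, hψ2, ε_β, Category.comp_id]
    have hp₁ψ : ∀ z, p₁ (ψ z) = ξ k n z := fun z =>
      congrArg (fun h : B k (n + 1) ⟶ B k n => h z) hψ1
    have hp₂ψ : ∀ z, p₂ (ψ z) = β k (n + 1) z := fun z =>
      congrArg (fun h : B k (n + 1) ⟶ A k (n + 1) => h z) hψ2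
    have hψss : IsSemismallExt ψ := by
      constructor
      · intro c
        have hw := hC.w_apply c
        obtain ⟨b₂, hb₂⟩ := αAlg_surjective k n (TrivSqZeroExt.snd (p₁ c))
        let z : DualNumber (Tr k (n + 1)) := ((p₂.toAlgHom c : Tr k (n + 1)), b₂)
        refine ⟨z, hC.inj _ _ ?_ ?_⟩
        · rw [hp₁ψ]
          refine TrivSqZeroExt.ext ?_ ?_
          · show αAlg k n (TrivSqZeroExt.fst z) = TrivSqZeroExt.fst (p₁ c)
            have : TrivSqZeroExt.fst z = p₂ c := rfl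
            rw [this]
            exact hw.symm
          · show αAlg k n (TrivSqZeroExt.snd z) = TrivSqZeroExt.snd (p₁ c)
            have : TrivSqZeroExt.snd z = b₂ := rfl
            rw [this, hb₂]
        · rw [hp₂ψ]
          show TrivSqZeroExt.fst z = p₂ c
          rfl
      · rw [eq_bot_iff, Ideal.mul_le]
        intro m hm x hx
        rw [Ideal.mem_bot]
        have hx0 : ψ x = 0 := RingHom.mem_ker.1 hx
        have h1 : ξ k n x = 0 := by rw [← hp₁ψ, hx0]; exact map_zero p₁.toAlgHom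
        have h2 : β k (n + 1) x = 0 := by rw [← hp₂ψ, hx0]; exact map_zero p₂.toAlgHom
        have h3 : TrivSqZeroExt.fst x = 0 := h2
        have h4 : αAlg k n (TrivSqZeroExt.snd x) = 0 := congrArg TrivSqZeroExt.snd h1
        have h5 : resA k (n + 1) (TrivSqZeroExt.fst m) = 0 :=
          (Art.mem_maximalIdeal_iff (B k (n + 1)) m).1 hm
        exact dual_mul_eq_zero k n m x h3 h4 h5
    let ℓ : ↥(RingHom.ker (α k (n + 1)).toAlgHom) →ₗ[k] ↥(RingHom.ker ψ.toAlgHom) :=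
      { toFun := fun j => ⟨(ε k (n + 1)).toAlgHom j.1, by
          rw [RingHom.mem_ker]
          have h1 : ψ ((ε k (n + 1)) j.1) = g ((α k (n + 1)) j.1) :=
            (congrArg (fun h : A k (n + 2) ⟶ C => h j.1) hsq).symm
          have h2 : (α k (n + 1)) j.1 = 0 := RingHom.mem_ker.1 j.2
          rw [h2] at h1
          exact h1.trans (map_zero g.toAlgHom)⟩
        map_add' := fun x y => Subtype.ext (map_add (ε k (n + 1)).toAlgHom x.1 y.1)
        map_smul' := fun c x => Subtype.ext (map_smul (ε k (n + 1)).toAlgHom c x.1) }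
    have hℓ : Function.Injective ℓ := by
      rw [injective_iff_map_eq_zero]
      intro j hj
      have h1 : εAlg k (n + 1) j.1 = 0 := congrArg Subtype.val hj
      exact Subtype.ext (εAlg_ker_injective k n j.1 (RingHom.mem_ker.1 j.2) h1)
    have hu : F.map ψ Y = F.map g X := by
      apply (hRS p₁ p₂ (β k n) (α k n) hC hαs).1
      apply FibProd.ext
      · show F.map p₁ (F.map ψ Y) = F.map p₁ (F.map g X)
        rw [← H6.map_comp_apply', ← H6.map_comp_apply', hψ1, hg1, hY2]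
      · show F.map p₂ (F.map ψ Y) = F.map p₂ (F.map g X)
        rw [← H6.map_comp_apply', ← H6.map_comp_apply', hψ2, hg2, hY1, H6.map_id_apply']
    have h1 : O.obs ψ hψss (F.map g X) = 0 := (O.obs_eq_zero_iff ψ hψss _).2 ⟨Y, hu⟩
    have h2 := hnat (α k (n + 1)) (isSemismallExt_α k (n + 1)) ψ hψss (ε k (n + 1)) g hsq ℓ
      (fun j => rfl) X
    rw [h1] at h2
    have hinj : Function.Injective (LinearMap.lTensor V ℓ) :=
      Module.Flat.lTensor_preserves_injective_linearMap ℓ hℓ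
    have h3 : O.obs (α k (n + 1)) (isSemismallExt_α k (n + 1)) X = 0 :=
      hinj (by rw [← h2, map_zero])
    exact (O.obs_eq_zero_iff _ _ X).1 h3

end Groth.Agent.H8.T1L
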