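import Groth.Agent.Lib.Helper8.ArtObs.PSLift
import Groth.Agent.Lib.Helper6.ArtFun

/-!
# Naturality of the obstruction theory of `h_R`, and the Rim–Schlessinger condition for `h_R`
(helper8)
-/

set_option autoImplicit false

universe u

open IsLocalRing ArtFun ArtFun.Art CategoryTheory TensorProduct Groth.Agent.H8.ArtObs

namespace Groth.Agent.H8.T1L

section Nat

variable {k : Type u} [Field k]
  {P : Type u} [CommRing P] [IsLocalRing P] [IsNoetherianRing P] [Algebra k P]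
  {R : Type u} [CommRing R] [Algebra k R] (res : R →ₐ[k] k)
  (π : P →ₐ[k] R) (hπ : Function.Surjective π)
  (J : Ideal P) (hJ : J = RingHom.ker π) (hsq : J ≤ maximalIdeal P ^ 2)
  (hl : HasLifts k P) [Module.Finite k (ConormalFibre J)]

theorem obsTheoryHR_nat ⦃A' A C' C : Art k k⦄ (φ : A' ⟶ A) (hφ : IsSemismallExt φ)
    (ψ : C' ⟶ C) (hψ : IsSemismallExt ψ) (g' : A' ⟶ C') (g : A ⟶ C) (hsqr : φ ≫ g = g' ≫ ψ)
    (ℓ : ↥(RingHom.ker φ.toAlgHom) →ₗ[k] ↥(RingHom.ker ψ.toAlgHom))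
    (hℓ : ∀ j : ↥(RingHom.ker φ.toAlgHom),
      ((ℓ j : ↥(RingHom.ker ψ.toAlgHom)) : C') = g' (j : A'))
    (u : (hR R res).obj A) :
    (obsTheoryHR res π hπ J hJ hsq hl).obs ψ hψ ((hR R res).map g u) =
      LinearMap.lTensor (Module.Dual k (ConormalFibre J)) ℓ
        ((obsTheoryHR res π hπ J hJ hsq hl).obs φ hφ u) := by
  obtain ⟨ũ, hũ⟩ := hl φ hφ.1 ((u : HomSet R res A).1.comp π)
  have hu1 : obsMap res π J hJ hl φ hφ u =
      liftMap J φ hφ ũ (lift_kills res π J hJ φ u ũ hũ) :=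
    obsMap_eq res π J hJ hsq hl φ hφ u ũ hũ
  have hũ' : ψ.toAlgHom.comp (g'.toAlgHom.comp ũ) =
      (HomSet.map g (u : HomSet R res A)).1.comp π := by
    apply AlgHom.ext
    intro a
    show ψ (g' (ũ a)) = g ((u : HomSet R res A).1 (π a))
    have e1 : φ (ũ a) = (u : HomSet R res A).1 (π a) := AlgHom.congr_fun hũ a
    have e2 : g (φ (ũ a)) = ψ (g' (ũ a)) := congrArg (fun h : A' ⟶ C => h (ũ a)) hsqr
    rw [← e2, e1]
  have hu2 : obsMap res π J hJ hl ψ hψ (HomSet.map g (u : HomSet R res A)) =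
      liftMap J ψ hψ (g'.toAlgHom.comp ũ)
        (lift_kills res π J hJ ψ (HomSet.map g (u : HomSet R res A)) _ hũ') :=
    obsMap_eq res π J hJ hsq hl ψ hψ (HomSet.map g (u : HomSet R res A)) _ hũ'
  have h3 : liftMap J ψ hψ (g'.toAlgHom.comp ũ)
        (lift_kills res π J hJ ψ (HomSet.map g (u : HomSet R res A)) _ hũ') =
      ℓ ∘ₗ liftMap J φ hφ ũ (lift_kills res π J hJ φ u ũ hũ) := by
    apply LinearMap.ext
    intro q
    obtain ⟨x, rfl⟩ := Submodule.Quotient.mk_surjective _ q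
    apply Subtype.ext
    rw [LinearMap.comp_apply, hℓ, liftMap_mk, liftMap_mk]
    rfl
  show (dualTensorHomEquiv k (ConormalFibre J) _).symm
      (obsMap res π J hJ hl ψ hψ (HomSet.map g (u : HomSet R res A))) =
    LinearMap.lTensor _ ℓ ((dualTensorHomEquiv k (ConormalFibre J) _).symm
      (obsMap res π J hJ hl φ hφ u))
  rw [hu2, h3, hu1, dualTensor_symm_comp]

end Nat

section RS

variable {k : Type u} [Field k] {R : Type u} [CommRing R] [Algebra k R] (res : R →ₐ[k] k)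

theorem hR_rs ⦃Q A A' A'' : Art k k⦄ (p' : Q ⟶ A') (p'' : Q ⟶ A'') (f' : A' ⟶ A) (f'' : A'' ⟶ A)
    (h : IsFibreProd p' p'' f' f'') : Function.Bijective (ArtFun.cmp (hR R res) h) := by
  constructor
  · intro φ ψ hφψ
    have h1 : HomSet.map p' φ = HomSet.map p' ψ := congrArg (fun z => z.1.1) hφψ
    have h2 : HomSet.map p'' φ = HomSet.map p'' ψ := congrArg (fun z => z.1.2) hφψ
    exact H6.fp_homSet_ext h h1 h2
  · rintro ⟨⟨φ', φ''⟩, hc⟩
    obtain ⟨φ, h1, h2⟩ := H6.fp_exists_homSet h φ' φ'' hc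
    exact ⟨φ, FibProd.ext h1 h2⟩

end RS

end Groth.Agent.H8.T1L
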