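import Groth.Agent.Lib.Helper8.T1L.HR
import Groth.Agent.Lib.Helper8.T1L.Core
import Groth.Agent.Lib.Helper8.ArtObs.MinPres
import Groth.Agent.Lib.Helper8.ArtObs.SmoothLambda
import Groth.Agent.Lib.Helper8.Jets.Core
import Groth.Agent.Lib.Helper5.CA.PSRegular
import Groth.Agent.Lib.Helper6.ArtFunSepHull

/-!
# The T¹-lifting theorem for functors of Artin rings (helper8)

A deformation functor (Rim–Schlessinger, finite-dimensional tangent space) over a field of
characteristic zero with the T¹-lifting property for split square-zero extensions is smooth: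
its hull `R` satisfies the T¹-lifting property, hence all curvilinear jets of `R` lift
(`T1L.main`), hence `R` is regular (`Jets.isRegularLocalRing_of_lifts`), hence a power series
ring, hence `h_R` and `F` are smooth.
-/

set_option autoImplicit false

universe u v

open IsLocalRing ArtFun ArtFun.Art CategoryTheory T1Lift Polynomial Groth.Agent.H8.ArtObs

namespace Groth.Agent.H8.T1L

variable (k : Type u) [Field k]

/-- The section `a ↦ (a, 0)` of `β`. -/
noncomputable def ιB (n : ℕ) : A k n ⟶ B k n :=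
  Art.homMk (TrivSqZeroExt.inlAlgHom k (Tr k n) (Tr k n)) (AlgHom.ext fun _ => rfl)

theorem ιB_β (n : ℕ) : ιB k n ≫ β k n = 𝟙 (A k n) := Art.hom_ext (AlgHom.ext fun _ => rfl)

theorem dual_mul_zero {S : Type u} [CommRing S] (x y : DualNumber S)
    (hx : TrivSqZeroExt.fst x = 0) (hy : TrivSqZeroExt.fst y = 0) : x * y = 0 := by
  refine TrivSqZeroExt.ext ?_ ?_
  · rw [TrivSqZeroExt.fst_mul, hx, zero_mul, TrivSqZeroExt.fst_zero]
  · rw [TrivSqZeroExt.snd_mul, hx, hy]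
    simp

theorem ker_β_sq (n : ℕ) :
    RingHom.ker (β k n).toAlgHom * RingHom.ker (β k n).toAlgHom = ⊥ := by
  rw [eq_bot_iff, Ideal.mul_le]
  intro x hx y hy
  rw [Ideal.mem_bot]
  exact dual_mul_zero x y (RingHom.mem_ker.1 hx) (RingHom.mem_ker.1 hy)

/-- The comparison square of the T¹-lifting argument. -/
theorem exists_square (n : ℕ) :
    ∃ (C : Art k k) (p₁ : C ⟶ B k n) (p₂ : C ⟶ A k (n + 1)) (ψ : B k (n + 1) ⟶ C)
      (g : A k (n + 1) ⟶ C),
      IsFibreProd p₁ p₂ (β k n) (α k n) ∧ ψ ≫ p₁ = ξ k n ∧ ψ ≫ p₂ = β k (n + 1) ∧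
        g ≫ p₁ = ε k n ∧ g ≫ p₂ = 𝟙 _ ∧ Function.Surjective ψ ∧
        RingHom.ker p₂.toAlgHom * RingHom.ker p₂.toAlgHom = ⊥ := by
  have hαs : Function.Surjective (α k n) := αAlg_surjective k n
  obtain ⟨C, p₁, p₂, hC⟩ := H6.art_exists_isFibreProd (β k n) (α k n) hαs
  obtain ⟨ψ, hψ1, hψ2⟩ := H6.fp_exists_lift hC (ξ k n) (β k (n + 1)) (ξ_β k n)
  obtain ⟨g, hg1, hg2⟩ := H6.fp_exists_lift hC (ε k n) (𝟙 _)
    ((ε_β k n).trans (Category.id_comp _).symm)
  refine ⟨C, p₁, p₂, ψ, g, hC, hψ1, hψ2, hg1, hg2, ?_, ?_⟩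
  · have hp₁ψ : ∀ z, p₁ (ψ z) = ξ k n z := fun z =>
      congrArg (fun h : B k (n + 1) ⟶ B k n => h z) hψ1
    have hp₂ψ : ∀ z, p₂ (ψ z) = β k (n + 1) z := fun z =>
      congrArg (fun h : B k (n + 1) ⟶ A k (n + 1) => h z) hψ2
    intro c
    have hw := hC.w_apply c
    obtain ⟨b₂, hb₂⟩ := αAlg_surjective k n (TrivSqZeroExt.snd (p₁ c))
    let z : DualNumber (Tr k (n + 1)) := ((p₂.toAlgHom c : Tr k (n + 1)), b₂)
    refine ⟨z, hC.inj _ _ ?_ ?_⟩
    · rw [hp₁ψ]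
      refine TrivSqZeroExt.ext ?_ ?_
      · show αAlg k n (TrivSqZeroExt.fst z) = TrivSqZeroExt.fst (p₁ c)
        have : TrivSqZeroExt.fst z = p₂ c := rfl
        rw [this]
        exact hw.symm
      · show αAlg k n (TrivSqZeroExt.snd z) = TrivSqZeroExt.snd (p₁ c)
        have : TrivSqZeroExt.snd z = b₂ := rfl
        rw [this, hb₂]
    · rw [hp₂ψ]
      show TrivSqZeroExt.fst z = p₂ c
      rfl
  · rw [eq_bot_iff, Ideal.mul_le]
    intro c hc c' hc'
    rw [Ideal.mem_bot]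
    have h0 : p₂ c = 0 := RingHom.mem_ker.1 hc
    have h0' : p₂ c' = 0 := RingHom.mem_ker.1 hc'
    have hf : TrivSqZeroExt.fst (p₁ c) = 0 := by
      have := hC.w_apply c
      rw [h0] at this
      exact this.trans (map_zero (α k n).toAlgHom)
    have hf' : TrivSqZeroExt.fst (p₁ c') = 0 := by
      have := hC.w_apply c'
      rw [h0'] at this
      exact this.trans (map_zero (α k n).toAlgHom)
    apply hC.inj
    · have e1 : p₁ (c * c') = p₁ c * p₁ c' := map_mul p₁.toAlgHom c c'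
      rw [e1]
      exact (dual_mul_zero (p₁ c) (p₁ c') hf hf').trans (map_zero p₁.toAlgHom).symm
    · have e1 : p₂ (c * c') = p₂ c * p₂ c' := map_mul p₂.toAlgHom c c'
      rw [e1, h0, zero_mul]
      exact (map_zero p₂.toAlgHom).symm

section Lift

variable {k}
variable [CharZero k] (F : Art k k ⥤ Type v)
  (hT1 : ∀ ⦃A A' A'' : ArtFun.Art k k⦄ (π' : A' ⟶ A) (i' : A ⟶ A') (π'' : A'' ⟶ A) (i'' : A ⟶ A'')
        (q : A'' ⟶ A'), i' ≫ π' = 𝟙 A → i'' ≫ π'' = 𝟙 A →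
        RingHom.ker π'.toAlgHom * RingHom.ker π'.toAlgHom = ⊥ →
        RingHom.ker π''.toAlgHom * RingHom.ker π''.toAlgHom = ⊥ →
        q ≫ π' = π'' → i'' ≫ q = i' → Function.Surjective q → Function.Surjective (F.map q))
  (R : CRing k k) (η : Family R.carrier R.res F) (hv : IsVersal η)
  {V : Type u} [AddCommGroup V] [Module k V] (O : ObsTheory (hR R.carrier R.res) V)
  (hnat : ∀ ⦃A' A C' C : ArtFun.Art k k⦄ (φ : A' ⟶ A) (hφ : ArtFun.Art.IsSemismallExt φ)
      (ψ : C' ⟶ C) (hψ : ArtFun.Art.IsSemismallExt ψ) (g' : A' ⟶ C') (g : A ⟶ C), φ ≫ g = g' ≫ ψ →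
      ∀ (ℓ : ↥(RingHom.ker φ.toAlgHom) →ₗ[k] ↥(RingHom.ker ψ.toAlgHom)),
        (∀ j : ↥(RingHom.ker φ.toAlgHom), ((ℓ j : ↥(RingHom.ker ψ.toAlgHom)) : C') = g' (j : A')) →
        ∀ u : (hR R.carrier R.res).obj A,
          O.obs ψ hψ ((hR R.carrier R.res).map g u) = LinearMap.lTensor V ℓ (O.obs φ hφ u))

include hT1 hv hnat in
theorem exists_lift_hR (n : ℕ) (φ : HomSet R.carrier R.res (A k (n + 1))) :
    ∃ φ' : HomSet R.carrier R.res (A k (n + 2)), HomSet.map (α k (n + 1)) φ' = φ := by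
  refine (main k (hR R.carrier R.res)
    (fun P A A' A'' p' p'' f' f'' h _ => hR_rs R.res p' p'' f' f'' h) V O hnat n φ).2 ?_
  obtain ⟨C, p₁, p₂, ψ, g, hC, hψ1, hψ2, hg1, hg2, hψs, hp₂sq⟩ := exists_square k n
  have hFs : Function.Surjective (F.map ψ) :=
    hT1 p₂ (ιB k (n + 1) ≫ ψ) (β k (n + 1)) (ιB k (n + 1)) ψ
      (by rw [Category.assoc, hψ2, ιB_β]) (ιB_β k (n + 1)) hp₂sq (ker_β_sq k (n + 1)) hψ2 rfl hψs
  obtain ⟨Y, hY⟩ := hFs (F.map g (η.app _ φ))
  obtain ⟨YR, hYR, -⟩ := hv ψ hψs (HomSet.map g φ) Y (by rw [hY, η.natural])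
  have hYR' : (hR R.carrier R.res).map ψ YR = (hR R.carrier R.res).map g φ := hYR
  refine ⟨YR, ?_, ?_⟩
  · rw [← hψ2, H6.map_comp_apply', hYR', ← H6.map_comp_apply', hg2, H6.map_id_apply']
  · rw [← hψ1, H6.map_comp_apply', hYR', ← H6.map_comp_apply', hg1]

end Lift

section Reg

variable {k}

theorem factor_eq_αAlg (n : ℕ)
    (h : Ideal.span {(X : k[X]) ^ (n + 2 + 1)} ≤ Ideal.span {(X : k[X]) ^ (n + 2)})
    (y : Tr k (n + 2)) :
    (Ideal.Quotient.factorₐ k h) y = αAlg k (n + 1) y := by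
  induction y using AdjoinRoot.induction_on with
  | ih p =>
    rw [αAlg_mk]
    rfl

theorem isRegular_of_curvilinear [Infinite k] (R : CRing k k)
    (H : ∀ (n : ℕ) (φ : HomSet R.carrier R.res (A k (n + 1))),
      ∃ φ' : HomSet R.carrier R.res (A k (n + 2)), HomSet.map (α k (n + 1)) φ' = φ) :
    IsRegularLocalRing R.carrier := by
  refine Jets.isRegularLocalRing_of_lifts R.res ?_
  intro l hl φ
  obtain ⟨n, rfl⟩ := Nat.exists_eq_add_of_le' hl
  let φ₀ : R.carrier →ₐ[k] Tr k (n + 1) := φ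
  obtain ⟨φ', hφ'⟩ := H n ⟨φ₀, Jets.algHom_unique _ _⟩
  refine ⟨φ'.1, ?_⟩
  apply AlgHom.ext
  intro a
  have h1 : αAlg k (n + 1) (φ'.1 a) = φ₀ a :=
    congrArg (fun t : HomSet R.carrier R.res (A k (n + 1)) => t.1 a) hφ'
  rw [AlgHom.comp_apply]
  exact (factor_eq_αAlg n _ (φ'.1 a)).trans h1

end Reg

section Main

variable {k}

theorem t1_smooth [CharZero k]
    (F : ArtFun.Art k k ⥤ Type v) [ArtFun.TangentStr F]
    (h0 : ArtFun.H0 F)
    (hRS : (∀ ⦃B A A' A'' : ArtFun.Art k k⦄ (p' : B ⟶ A') (p'' : B ⟶ A'') (f' : A' ⟶ A) (f'' : A'' ⟶ A)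
        (h : ArtFun.Art.IsFibreProd p' p'' f' f''), Function.Surjective f'' →
          Function.Bijective (ArtFun.cmp F h)))
    (hfin : ArtFun.Hfin F)
    (hT1 : ∀ ⦃A A' A'' : ArtFun.Art k k⦄ (π' : A' ⟶ A) (i' : A ⟶ A') (π'' : A'' ⟶ A) (i'' : A ⟶ A'')
        (q : A'' ⟶ A'), i' ≫ π' = 𝟙 A → i'' ≫ π'' = 𝟙 A →
        RingHom.ker π'.toAlgHom * RingHom.ker π'.toAlgHom = ⊥ →
        RingHom.ker π''.toAlgHom * RingHom.ker π''.toAlgHom = ⊥ →
        q ≫ π' = π'' → i'' ≫ q = i' → Function.Surjective q → Function.Surjective (F.map q)) :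
    ArtFun.IsSmoothFunctor F := by
  classical
  have hk : Subsingleton (Derivation k k k) := ⟨fun D₁ D₂ => by
    ext c
    have e : c = algebraMap k k c := rfl
    rw [e, D₁.map_algebraMap, D₂.map_algebraMap]⟩
  have h1 : S1 F := fun B A A' A'' p' p'' f' f'' h hs => (hRS p' p'' f' f'' h hs).2
  have h2 : Heps F := fun B A' p' p'' h => hRS p' p'' _ _ h (dual k k).res_surjective
  obtain ⟨⟨R, η, hv, -⟩⟩ := H6.hasHull_of_no_derivations hk h0 h1 h2 hfin
  haveI := R.isAdicComplete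
  obtain ⟨d, ψ, hψs, hker⟩ := exists_minimal_pres R.carrier R.res R.isAdicComplete
  haveI : IsNoetherianRing (MvPowerSeries (Fin d) k) := isNoetherianRing_mvPowerSeries k d
  haveI : Module.Finite k (ConormalFibre (RingHom.ker ψ)) :=
    finite_conormalFibre (RingHom.ker ψ) (R.res.comp ψ)
  haveI : Infinite k := inferInstance
  have hreg : IsRegularLocalRing R.carrier :=
    isRegular_of_curvilinear R fun n φ =>
      exists_lift_hR F hT1 R η hv
        (obsTheoryHR R.res ψ hψs (RingHom.ker ψ) rfl hker (hasLifts_mvPowerSeries k d))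
        (obsTheoryHR_nat R.res ψ hψs (RingHom.ker ψ) rfl hker (hasLifts_mvPowerSeries k d)) n φ
  have hbij : Function.Bijective (algebraMap k (ResidueField R.carrier)) :=
    ⟨(algebraMap k (ResidueField R.carrier)).injective,
      residue_comp_algebraMap_surjective R.carrier R.res⟩
  obtain ⟨e, ⟨eq⟩⟩ := H5.CA.exists_algEquiv_mvPowerSeries_of_regular R.carrier k hbij
  haveI : IsAdicComplete (maximalIdeal k) k := by
    rw [IsLocalRing.maximalIdeal_eq_bot]
    infer_instance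
  have hsm : IsSmoothFunctor (hR R.carrier R.res) :=
    (ArtPS.smooth_iff_powerSeries (Λ := k) (k := k) Function.surjective_id R).2 ⟨e, ⟨eq⟩⟩
  intro B A μ hμ x
  obtain ⟨φ, rfl⟩ := H6.versal_surjective_app η hv h0 A x
  obtain ⟨φ', hφ'⟩ := hsm μ hμ φ
  have hφ'' : HomSet.map μ φ' = φ := hφ'
  exact ⟨η.app B φ', by rw [← η.natural, hφ'']⟩

end Main

end Groth.Agent.H8.T1L
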